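import Groth.Prelude.Def_DualLC
import Groth.Agent.H22Alg.DimFormula
import Groth.Agent.H05EGA4.FiniteModule
import Groth.Agent.H4LC.FaltingsApps
import Groth.Agent.S9126
import Mathlib.RingTheory.Ideal.GoingUp

/-!
# Heights along finite maps over universally catenary rings
-/

set_option autoImplicit false
set_option linter.style.haveILetI false

universe u

open Groth.Agent

namespace Groth.Agent.H4CutoffFinite

/-- For finite extensions of domains heights are preserved. -/
theorem height_eq_of_finite (R S : Type u) [CommRing R] [IsDomain R] [CommRing S] [IsDomain S] [Algebra R S]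
    [Module.Finite R S] [FaithfulSMul R S] (hR : CAlg.IsUniversallyCatenary R) (p : Ideal R) [p.IsPrime]
    (q : Ideal S) [q.IsPrime] [q.LiesOver p] : q.height = p.height := by
  haveI : IsNoetherianRing R := hR.1
  have h := H22Alg.DimFormula.eq_of_isUniversallyCatenary R hR S p q
  haveI : Algebra.IsIntegral R S := Algebra.IsIntegral.of_finite _ _
  haveI : Module.Finite (R ⧸ p) (S ⧸ q) := Module.Finite.of_restrictScalars_finite R _ _
  haveI : Algebra.IsIntegral (R ⧸ p) (S ⧸ q) := Algebra.IsIntegral.of_finite _ _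
  haveI : FaithfulSMul (R ⧸ p) (S ⧸ q) := (faithfulSMul_iff_algebraMap_injective _ _).2
    ((injective_iff_map_eq_zero _).2 fun x hx => by
      obtain ⟨r, rfl⟩ := Ideal.Quotient.mk_surjective x
      rw [Ideal.Quotient.algebraMap_mk_of_liesOver, Ideal.Quotient.eq_zero_iff_mem] at hx
      rw [Ideal.Quotient.eq_zero_iff_mem, Ideal.LiesOver.over (p := p) (P := q)]
      exact hx)
  rw [trdeg_eq_zero (R := R) (A := S), trdeg_eq_zero (R := R ⧸ p) (A := S ⧸ q), add_zero, add_zero] at h
  exact Cardinal.ofENat_inj.1 h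

variable {A B : Type u} [CommRing A] [CommRing B] [Algebra A B] [Module.Finite A B]

theorem height_Ici_eq (hA : CAlg.IsUniversallyCatenary A) {P Q : PrimeSpectrum B} (hPQ : P ≤ Q) :
    Order.height (⟨Q, hPQ⟩ : Set.Ici P) =
      Order.height (⟨PrimeSpectrum.comap (algebraMap A B) Q, Ideal.comap_mono hPQ⟩ :
        Set.Ici (PrimeSpectrum.comap (algebraMap A B) P)) := by
  refine (H4LC.height_map_mk_eq_Ici hPQ).symm.trans (Eq.trans ?_ (H4LC.height_map_mk_eq_Ici (p := PrimeSpectrum.comap (algebraMap A B) P) (q := PrimeSpectrum.comap (algebraMap A B) Q) (Ideal.comap_mono hPQ)))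
  let p := (PrimeSpectrum.comap (algebraMap A B) P).asIdeal
  let q := (PrimeSpectrum.comap (algebraMap A B) Q).asIdeal
  have hpq : p ≤ q := Ideal.comap_mono hPQ
  haveI : P.asIdeal.LiesOver p := ⟨rfl⟩
  haveI := Ideal.isPrime_map_quotientMk_of_isPrime (I := P.asIdeal) (p := Q.asIdeal) hPQ
  haveI : q.IsPrime := (PrimeSpectrum.comap (algebraMap A B) Q).2
  haveI : p.IsPrime := (PrimeSpectrum.comap (algebraMap A B) P).2
  haveI := Ideal.isPrime_map_quotientMk_of_isPrime (I := p) (p := q) hpq
  haveI : Module.Finite (A ⧸ p) (B ⧸ P.asIdeal) := Module.Finite.of_restrictScalars_finite A _ _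
  haveI : FaithfulSMul (A ⧸ p) (B ⧸ P.asIdeal) :=
    (faithfulSMul_iff_algebraMap_injective _ _).2 Ideal.algebraMap_quotient_injective
  haveI : (Q.asIdeal.map (Ideal.Quotient.mk P.asIdeal)).LiesOver (q.map (Ideal.Quotient.mk p)) := ⟨by
    refine Ideal.comap_injective_of_surjective _ Ideal.Quotient.mk_surjective ?_
    rw [Ideal.comap_map_of_surjective' _ Ideal.Quotient.mk_surjective, Ideal.mk_ker, sup_eq_left.2 hpq, Ideal.under,
      Ideal.comap_comap]
    show q = Ideal.comap ((algebraMap (A ⧸ p) (B ⧸ P.asIdeal)).comp (Ideal.Quotient.mk p)) _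
    rw [show (algebraMap (A ⧸ p) (B ⧸ P.asIdeal)).comp (Ideal.Quotient.mk p) =
        (Ideal.Quotient.mk P.asIdeal).comp (algebraMap A B) from RingHom.ext fun _ => rfl,
      ← Ideal.comap_comap, Ideal.comap_map_of_surjective' _ Ideal.Quotient.mk_surjective, Ideal.mk_ker,
      sup_eq_left.2 (show P.asIdeal ≤ Q.asIdeal from hPQ)]
    rfl⟩
  exact height_eq_of_finite (A ⧸ p) (B ⧸ P.asIdeal) (S9126.result A (A ⧸ p) hA) (q.map (Ideal.Quotient.mk p))
    (Q.asIdeal.map (Ideal.Quotient.mk P.asIdeal))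

theorem cutoff_eq (hA : CAlg.IsUniversallyCatenary A) [IsNoetherianRing A] [IsNoetherianRing B] (I : Ideal A)
    (M : Type u) [AddCommGroup M] [Module B M] [Module A M] [IsScalarTower A B M] [Module.Finite B M] :
    Dual2.cutoff B (I.map (algebraMap A B)) M = Dual2.cutoff A I M := by
  haveI : Module.Finite A M := Module.Finite.trans B M
  haveI : Algebra.IsIntegral A B := Algebra.IsIntegral.of_finite A B
  refine le_antisymm ?_ ?_
  · refine le_iInf fun p => le_iInf fun q => le_iInf fun hpq => le_iInf fun hp => le_iInf fun hq => ?_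
    rw [H05EGA4.FiniteModule.depth_eq (B := B) M p.asIdeal]
    by_cases he : (H05EGA4.FiniteModule.overP (A := A) (B := B) M p.asIdeal).Nonempty
    · haveI := he.to_subtype
      rw [← iInf_subtype'']
      obtain ⟨⟨P, hP⟩, hmin⟩ := ENat.exists_eq_iInf fun P : H05EGA4.FiniteModule.overP (A := A) (B := B) M p.asIdeal =>
        LocCoh.depth (Localization.AtPrime P.1.asIdeal) (LocalizedModule P.1.asIdeal.primeCompl M)
      rw [← hmin]
      haveI : P.asIdeal.LiesOver p.asIdeal := ⟨hP.1.symm⟩
      obtain ⟨Q, hQ, hQp, hQq⟩ := Ideal.exists_ideal_over_prime_of_isIntegral_of_isPrime q.asIdeal P.asIdeal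
        (hP.1.le.trans hpq)
      have hPQ : P ≤ ⟨Q, hQp⟩ := hQ
      refine iInf_le_of_le P (iInf_le_of_le ⟨Q, hQp⟩ (iInf_le_of_le hPQ (iInf_le_of_le ?_ (iInf_le_of_le ?_ ?_))))
      · exact fun h => hp (hP.1 ▸ Ideal.map_le_iff_le_comap.1 h)
      · exact Ideal.map_le_iff_le_comap.2 (hQq.symm ▸ hq)
      refine le_of_eq (congrArg _ ?_)
      rw [height_Ici_eq hA hPQ]
      have e1 : PrimeSpectrum.comap (algebraMap A B) P = p := PrimeSpectrum.ext hP.1
      have e2 : PrimeSpectrum.comap (algebraMap A B) ⟨Q, hQp⟩ = q := PrimeSpectrum.ext hQq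
      subst e1 e2
      rfl
    · rw [iInf₂_eq_top.2 fun P hP => (he ⟨P, hP⟩).elim, top_add]
      exact le_top
  · refine le_iInf fun P => le_iInf fun Q => le_iInf fun hPQ => le_iInf fun hP => le_iInf fun hQ => ?_
    refine iInf_le_of_le (PrimeSpectrum.comap (algebraMap A B) P) (iInf_le_of_le (PrimeSpectrum.comap (algebraMap A B) Q)
      (iInf_le_of_le (Ideal.comap_mono hPQ) (iInf_le_of_le (fun h => hP (Ideal.map_le_iff_le_comap.2 h))
        (iInf_le_of_le (Ideal.map_le_iff_le_comap.1 hQ) ?_))))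
    by_cases hs : P ∈ Module.support B M
    · rw [height_Ici_eq hA hPQ, H05EGA4.FiniteModule.depth_eq (B := B) M]
      exact add_le_add_left (iInf₂_le P ⟨rfl, hs⟩) _
    · rw [Module.notMem_support_iff] at hs
      rw [show LocCoh.depth (Localization.AtPrime P.asIdeal) (LocalizedModule P.asIdeal.primeCompl M) = ⊤ from
        H4Depth.idealDepth_eq_top (Subsingleton.elim _ _), top_add]
      exact le_top

end Groth.Agent.H4CutoffFinite
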